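import Mathlib

/-!
# Four character degrees: the numerical elimination for the sporadic groups (helper118, for S4898)

`Rel p e N1 a b c` : the relation between the degrees of the principal `p`-block (Sylow `p`-subgroup `P` of order `p`,
`e = |N(P) : C(P)|`, at most `N1` linear characters) if all degrees are in `{1, a, b, c}`.

`survive` : if `a, b, c ≥ 3` divide `N`, every prime of `N` divides one of them and for every `(p, L) ∈ Ps` the relation
holds with some divisor `e ≥ 2` of `p - 1`, then `{a, b, c}` is one of the triples in the (usually empty) list `S`,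
provided `master … = true` (`decide +kernel`). The lists `L` (pairs of degrees prime to `p`) and `S` are computed by
`tools/fd118.py`.
-/

set_option autoImplicit false

namespace Cfsg.Agent.H118.FD

/-- the relation between the degrees in the principal block -/
def Rel (p e N1 a b c : ℕ) : Prop :=
  ∃ (n1 na nb nc f : ℕ) (sa sb sc s : ℤ), 1 ≤ n1 ∧ n1 ≤ N1 ∧ n1 + na + nb + nc = e ∧
    (sa = 1 ∨ sa = -1) ∧ (sb = 1 ∨ sb = -1) ∧ (sc = 1 ∨ sc = -1) ∧ (s = 1 ∨ s = -1) ∧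
    (na ≠ 0 → (p : ℤ) ∣ sa * a - 1) ∧ (nb ≠ 0 → (p : ℤ) ∣ sb * b - 1) ∧ (nc ≠ 0 → (p : ℤ) ∣ sc * c - 1) ∧
    (f = 1 ∨ f = a ∨ f = b ∨ f = c) ∧ (p : ℤ) ∣ f + e * s ∧
    (n1 : ℤ) + sa * na * a + sb * nb * b + sc * nc * c + s * f = 0

theorem Rel.rot {p e N1 a b c : ℕ} (h : Rel p e N1 a b c) : Rel p e N1 b c a := by
  obtain ⟨n1, na, nb, nc, f, sa, sb, sc, s, h1, h2, h3, h4, h5, h6, h7, h8, h9, h10, h11, h12, h13⟩ := h
  refine ⟨n1, nb, nc, na, f, sb, sc, sa, s, h1, h2, by omega, h5, h6, h4, h7, h9, h10, h8, ?_, h12, ?_⟩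
  · rcases h11 with h | h | h | h
    · exact Or.inl h
    · exact Or.inr (Or.inr (Or.inr h))
    · exact Or.inr (Or.inl h)
    · exact Or.inr (Or.inr (Or.inl h))
  · linear_combination h13

theorem Rel.swap {p e N1 a b c : ℕ} (h : Rel p e N1 a b c) : Rel p e N1 b a c := by
  obtain ⟨n1, na, nb, nc, f, sa, sb, sc, s, h1, h2, h3, h4, h5, h6, h7, h8, h9, h10, h11, h12, h13⟩ := h
  refine ⟨n1, nb, na, nc, f, sb, sa, sc, s, h1, h2, by omega, h5, h4, h6, h7, h9, h8, h10, ?_, h12, ?_⟩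
  · rcases h11 with h | h | h | h
    · exact Or.inl h
    · exact Or.inr (Or.inr (Or.inl h))
    · exact Or.inr (Or.inl h)
    · exact Or.inr (Or.inr (Or.inr h))
  · linear_combination h13

/-- two degrees only -/
def Rel2 (p e N1 a b : ℕ) : Prop :=
  ∃ (n1 na nb f : ℕ) (sa sb s : ℤ), 1 ≤ n1 ∧ n1 ≤ N1 ∧ n1 + na + nb = e ∧
    (sa = 1 ∨ sa = -1) ∧ (sb = 1 ∨ sb = -1) ∧ (s = 1 ∨ s = -1) ∧
    (na ≠ 0 → (p : ℤ) ∣ sa * a - 1) ∧ (nb ≠ 0 → (p : ℤ) ∣ sb * b - 1) ∧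
    (f = 1 ∨ f = a ∨ f = b) ∧ (p : ℤ) ∣ f + e * s ∧
    (n1 : ℤ) + sa * na * a + sb * nb * b + s * f = 0

theorem Rel.two {p e N1 a b c : ℕ} (hp : 1 < p) (he : 1 ≤ e) (hep : e < p) (hc : p ∣ c) (h : Rel p e N1 a b c) :
    Rel2 p e N1 a b := by
  obtain ⟨n1, na, nb, nc, f, sa, sb, sc, s, h1, h2, h3, h4, h5, h6, h7, h8, h9, h10, h11, h12, h13⟩ := h
  have hcz : (p : ℤ) ∣ c := by exact_mod_cast hc
  have hnc : nc = 0 := by
    by_contra hne
    have h14 := h10 hne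
    have h15 : (p : ℤ) ∣ 1 := by
      have := (Dvd.dvd.mul_left hcz sc).sub h14
      rwa [sub_sub_cancel] at this
    have := Int.le_of_dvd (by norm_num) h15
    omega
  have hf : f ≠ c := by
    rintro rfl
    have h15 : (p : ℤ) ∣ e * s := (dvd_add_right hcz).1 h12
    have h16 : (p : ℤ) ∣ e := by
      rcases h7 with rfl | rfl
      · rwa [mul_one] at h15
      · rwa [mul_neg, mul_one, dvd_neg] at h15
    have := Nat.le_of_dvd (by omega) (Int.natCast_dvd_natCast.1 h16)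
    omega
  subst hnc
  refine ⟨n1, na, nb, f, sa, sb, s, h1, h2, by omega, h4, h5, h7, h8, h9, ?_, h12, ?_⟩
  · rcases h11 with h | h | h | h
    · exact Or.inl h
    · exact Or.inr (Or.inl h)
    · exact Or.inr (Or.inr h)
    · exact absurd h hf
  · simpa using h13

/-- the absolute value of the difference -/
def ad (x y : ℕ) : ℕ := (x - y) + (y - x)

/-- the equation `t = m * b`, `b ∣ N`, `b ≥ 3`, `b` congruent to `r1` or `r2` modulo `p` -/
def solB (N p : ℕ) (L : List (ℕ × ℕ)) (a t m r1 r2 : ℕ) : Bool :=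
  (t % m != 0) || ((t / m != 0) && ((Nat.ble (t / m) 2) || (t / m % p != r1 && t / m % p != r2) || (N % (t / m) != 0) ||
    L.contains (a, t / m)))

theorem solB_sound {N p : ℕ} {L : List (ℕ × ℕ)} {a t m r1 r2 b : ℕ} (h : solB N p L a t m r1 r2 = true)
    (ht : t = m * b) (h3 : 3 ≤ b) (hb : b ∣ N) (hr : m ≠ 0 → (b % p = r1 ∨ b % p = r2)) : (a, b) ∈ L := by
  by_cases hm : m = 0
  · subst hm
    rw [zero_mul] at ht
    subst ht
    simp [solB] at h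
  · have h1 : t % m = 0 := by rw [ht]; exact Nat.mul_mod_right _ _
    have h2 : t / m = b := by rw [ht]; exact Nat.mul_div_cancel_left _ (Nat.pos_of_ne_zero hm)
    have h4 : N % b = 0 := Nat.mod_eq_zero_of_dvd hb
    unfold solB at h
    rw [h1, h2, h4] at h
    have h5 : Nat.ble b 2 = false := by
      rw [← Bool.not_eq_true, Nat.ble_eq]; omega
    rw [h5] at h
    simp only [bne_self_eq_false, Bool.false_or, Bool.and_eq_true, Bool.or_eq_true, bne_iff_ne, ne_eq,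
      Bool.or_false, List.contains_iff_mem] at h
    obtain ⟨-, h | h⟩ := h
    · rcases hr hm with h6 | h6
      · exact absurd h6 h.1
      · exact absurd h6 h.2
    · exact h

/-- the check for one `a`, `e < p - 1` -/
def chkE (N p e N1 : ℕ) (L : List (ℕ × ℕ)) (a : ℕ) : Bool :=
  (List.range N1).all fun i =>
    (bif a % p == 1 then solB N p L a (i + 1 + (e - (i + 1)) * a) 1 e (p - e) else
      bif a % p == p - 1 then solB N p L a (ad (i + 1) ((e - (i + 1)) * a)) 1 e (p - e) else true) &&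
    (bif a % p == e then solB N p L a (ad (i + 1) a) (e - (i + 1)) 1 (p - 1) else
      bif a % p == p - e then solB N p L a (i + 1 + a) (e - (i + 1)) 1 (p - 1) else true)

/-- the check for one `a`, `e = p - 1` -/
def chkQ (N p N1 : ℕ) (L : List (ℕ × ℕ)) (a : ℕ) : Bool :=
  (List.range (N1 + 1)).all fun j => (List.range (p - j)).all fun na =>
    bif a % p == 1 then solB N p L a (j + 1 + na * a) (p - (j + 1) - na) 1 (p - 1) else
      bif a % p == p - 1 then solB N p L a (ad (j + 1) (na * a)) (p - (j + 1) - na) 1 (p - 1) else true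

theorem sgn_mod {p a : ℕ} {s : ℤ} (hp : 2 < p) (hs : s = 1 ∨ s = -1) (h : (p : ℤ) ∣ s * a - 1) :
    (s = 1 ∧ a % p = 1) ∨ (s = -1 ∧ a % p = p - 1) := by
  obtain ⟨k, hk⟩ := h
  have hm := Nat.mod_lt a (show 0 < p by omega)
  have ha := Nat.div_add_mod a p
  set q := a / p
  set r := a % p
  have haz : (a : ℤ) = p * q + r := by exact_mod_cast ha.symm
  rcases hs with rfl | rfl
  · left
    refine ⟨rfl, ?_⟩
    have h1 : (p : ℤ) * (k - q) = r - 1 := by rw [mul_sub, ← hk, haz]; ring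
    have h2 : (p : ℤ) ∣ r - 1 := ⟨_, h1.symm⟩
    have h3 : (r : ℤ) - 1 = 0 := Int.eq_zero_of_abs_lt_dvd h2 (by rw [abs_lt]; constructor <;> omega)
    omega
  · right
    refine ⟨rfl, ?_⟩
    have h1 : (p : ℤ) * (-k - q) = r + 1 := by rw [mul_sub, mul_neg, ← hk, haz]; ring
    have h2 : (p : ℤ) ∣ r + 1 - p := ⟨-k - q - 1, by rw [mul_sub, h1]; ring⟩
    have h3 : (r : ℤ) + 1 - p = 0 := Int.eq_zero_of_abs_lt_dvd h2 (by rw [abs_lt]; constructor <;> omega)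
    omega

theorem exc_mod {p f e : ℕ} {s : ℤ} (he : 1 ≤ e) (hep : e < p) (hs : s = 1 ∨ s = -1) (h : (p : ℤ) ∣ f + e * s) :
    (s = 1 ∧ (f + e) % p = 0 ∧ f % p = p - e) ∨ (s = -1 ∧ f % p = e) := by
  obtain ⟨k, hk⟩ := h
  have hm := Nat.mod_lt f (show 0 < p by omega)
  have ha := Nat.div_add_mod f p
  set q := f / p
  set r := f % p
  have haz : (f : ℤ) = p * q + r := by exact_mod_cast ha.symm
  rcases hs with rfl | rfl
  · left
    refine ⟨rfl, ?_, ?_⟩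
    · have h1 : (p : ℤ) ∣ ((f + e : ℕ) : ℤ) := ⟨k, by push_cast; rw [← hk, mul_one]⟩
      exact Nat.mod_eq_zero_of_dvd (Int.natCast_dvd_natCast.1 h1)
    · have h1 : (p : ℤ) * (k - q) = r + e := by rw [mul_sub, ← hk, haz]; ring
      have h2 : (p : ℤ) ∣ r + e - p := ⟨k - q - 1, by rw [mul_sub, h1]; ring⟩
      have h3 : (r : ℤ) + e - p = 0 := Int.eq_zero_of_abs_lt_dvd h2 (by rw [abs_lt]; constructor <;> omega)
      omega
  · right
    refine ⟨rfl, ?_⟩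
    have h1 : (p : ℤ) * (k - q) = r - e := by rw [mul_sub, ← hk, haz]; ring
    have h2 : (p : ℤ) ∣ r - e := ⟨_, h1.symm⟩
    have h3 : (r : ℤ) - e = 0 := Int.eq_zero_of_abs_lt_dvd h2 (by rw [abs_lt]; constructor <;> omega)
    omega

theorem mul_le_of {n b Y : ℕ} (hY : Y = n * b) (hn : n ≠ 0) : b ≤ Y := by
  rw [hY]; exact Nat.le_mul_of_pos_left _ (Nat.pos_of_ne_zero hn)

theorem chkE_sound {N p e N1 : ℕ} {L : List (ℕ × ℕ)} {a b : ℕ} (hp : 2 < p) (hodd : p % 2 = 1) (hN1 : N1 ≤ 2)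
    (he : 2 ≤ e) (hep : e < p) (hep1 : e ≠ p - 1) (h : chkE N p e N1 L a = true) (h3b : 3 ≤ b) (hb : b ∣ N)
    (hR : Rel2 p e N1 a b) : (a, b) ∈ L := by
  obtain ⟨n1, na, nb, f, sa, sb, s, h1, h2, h3, h4, h5, h7, h8, h9, h11, h12, h13⟩ := hR
  have hc := exc_mod (by omega) hep h7 h12
  have hna : na ≠ 0 → (sa = 1 ∧ a % p = 1) ∨ (sa = -1 ∧ a % p = p - 1) := fun hne => sgn_mod hp h4 (h8 hne)
  have hnb : nb ≠ 0 → (sb = 1 ∧ b % p = 1) ∨ (sb = -1 ∧ b % p = p - 1) := fun hne => sgn_mod hp h5 (h9 hne)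
  obtain ⟨i, rfl⟩ : ∃ i, n1 = i + 1 := ⟨n1 - 1, by omega⟩
  have hi : i < N1 := by omega
  have hk := List.all_eq_true.1 h i (List.mem_range.2 hi)
  rw [Bool.and_eq_true] at hk
  obtain ⟨X, hX⟩ : ∃ X : ℕ, X = na * a := ⟨_, rfl⟩
  obtain ⟨Y, hY⟩ : ∃ Y : ℕ, Y = nb * b := ⟨_, rfl⟩
  have hXz : (na : ℤ) * a = X := by rw [hX]; push_cast; ring
  have hYz : (nb : ℤ) * b = Y := by rw [hY]; push_cast; ring
  have heq : ((i : ℤ) + 1) + sa * X + sb * Y + s * f = 0 := by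
    rw [← hXz, ← hYz]
    push_cast at h13
    linear_combination h13
  rcases h11 with hf | hf | hf
  · exfalso
    subst hf
    rcases hc with ⟨-, -, hc⟩ | ⟨-, hc⟩ <;> rw [Nat.mod_eq_of_lt (by omega)] at hc <;> omega
  · -- `f = a`, so `na = 0`
    subst hf
    have h0 : na = 0 := by
      by_contra hne
      rcases hna hne with h | h <;> rcases hc with h' | h' <;> have := h.2 <;> have := h'.2 <;> omega
    have hX0 : X = 0 := by rw [hX, h0, zero_mul]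
    rw [hX0] at heq
    have hm : e - (i + 1) = nb := by omega
    have hrb : nb ≠ 0 → (b % p = 1 ∨ b % p = p - 1) := fun hne => by rcases hnb hne with h | h <;> simp [h.2]
    have hk2 := hk.2
    rw [hm] at hk2
    rcases hc with ⟨hs, -, hc⟩ | ⟨hs, hc⟩
    · have hne : (f % p == e) = false ∨ f % p = e := by
        by_cases h : f % p = e
        · exact Or.inr h
        · left; simp [h]
      have hb2 : (f % p == p - e) = true := by simp [hc]
      rcases hne with hne | hne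
      · rw [hne, cond_false, hb2, cond_true] at hk2
        refine solB_sound hk2 ?_ h3b hb hrb
        rw [← hY]
        subst hs
        rcases h5 with rfl | rfl <;> omega
      · exfalso
        omega
    · have hb2 : (f % p == e) = true := by simp [hc]
      rw [hb2, cond_true] at hk2
      refine solB_sound hk2 ?_ h3b hb hrb
      rw [← hY, ad]
      subst hs
      rcases h5 with rfl | rfl <;> omega
  · -- `f = b`, so `nb = 0`
    subst hf
    have h0 : nb = 0 := by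
      by_contra hne
      rcases hnb hne with h | h <;> rcases hc with h' | h' <;> have := h.2 <;> have := h'.2 <;> omega
    have hY0 : Y = 0 := by rw [hY, h0, zero_mul]
    rw [hY0] at heq
    have hm : e - (i + 1) = na := by omega
    have hrf : f % p = e ∨ f % p = p - e := by
      rcases hc with h | h
      · exact Or.inr h.2.2
      · exact Or.inl h.2
    have hna0 : na ≠ 0 := by
      intro h0
      have hX0 : X = 0 := by rw [hX, h0, zero_mul]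
      rw [hX0] at heq
      rcases h7 with rfl | rfl <;> omega
    have hk1 := hk.1
    rw [hm, ← hX] at hk1
    rcases hna hna0 with ⟨rfl, hr⟩ | ⟨rfl, hr⟩
    · have hb2 : (a % p == 1) = true := by simp [hr]
      rw [hb2, cond_true] at hk1
      refine solB_sound hk1 ?_ h3b hb (fun _ => hrf)
      rcases h7 with rfl | rfl <;> omega
    · have hb2 : (a % p == 1) = false := by
        rw [hr]; simp; omega
      have hb3 : (a % p == p - 1) = true := by simp [hr]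
      rw [hb2, cond_false, hb3, cond_true] at hk1
      refine solB_sound hk1 ?_ h3b hb (fun _ => hrf)
      rw [ad]
      rcases h7 with rfl | rfl <;> omega

/-- the normal form for `e = p - 1` -/
theorem norm_Q {p N1 a b : ℕ} (hp : 2 < p) (hR : Rel2 p (p - 1) N1 a b) :
    ∃ (n1 na nb : ℕ) (sa sb : ℤ), 1 ≤ n1 ∧ n1 ≤ N1 + 1 ∧ n1 + na + nb = p ∧ (sa = 1 ∨ sa = -1) ∧ (sb = 1 ∨ sb = -1) ∧
      (na ≠ 0 → (sa = 1 ∧ a % p = 1) ∨ (sa = -1 ∧ a % p = p - 1)) ∧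
      (nb ≠ 0 → (sb = 1 ∧ b % p = 1) ∨ (sb = -1 ∧ b % p = p - 1)) ∧
      (n1 : ℤ) + sa * na * a + sb * nb * b = 0 := by
  obtain ⟨n1, na, nb, f, sa, sb, s, h1, h2, h3, h4, h5, h7, h8, h9, h11, h12, h13⟩ := hR
  have hc := exc_mod (by omega) (by omega) h7 h12
  have hna : na ≠ 0 → (sa = 1 ∧ a % p = 1) ∨ (sa = -1 ∧ a % p = p - 1) := fun hne => sgn_mod hp h4 (h8 hne)
  have hnb : nb ≠ 0 → (sb = 1 ∧ b % p = 1) ∨ (sb = -1 ∧ b % p = p - 1) := fun hne => sgn_mod hp h5 (h9 hne)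
  rcases h11 with hf | hf | hf
  · subst hf
    rcases hc with ⟨hs, -, hc⟩ | ⟨-, hc⟩
    · refine ⟨n1 + 1, na, nb, sa, sb, by omega, by omega, by omega, h4, h5, hna, hnb, ?_⟩
      rw [hs] at h13
      push_cast at h13 ⊢
      linear_combination h13
    · rw [Nat.mod_eq_of_lt (by omega)] at hc
      omega
  · subst hf
    have hs : (s = 1 ∧ f % p = 1) ∨ (s = -1 ∧ f % p = p - 1) := by
      rcases hc with ⟨hs, -, hc⟩ | ⟨hs, hc⟩
      · exact Or.inl ⟨hs, by omega⟩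
      · exact Or.inr ⟨hs, hc⟩
    refine ⟨n1, na + 1, nb, s, sb, h1, by omega, by omega, h7, h5, fun _ => hs, hnb, ?_⟩
    by_cases h0 : na = 0
    · rw [h0] at h13 ⊢
      push_cast at h13 ⊢
      linear_combination h13
    · have : sa = s := by
        rcases hna h0 with h | h <;> rcases hs with h' | h'
        · rw [h.1, h'.1]
        · have := h.2; have := h'.2; omega
        · have := h.2; have := h'.2; omega
        · rw [h.1, h'.1]
      rw [this] at h13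
      push_cast at h13 ⊢
      linear_combination h13
  · subst hf
    have hs : (s = 1 ∧ f % p = 1) ∨ (s = -1 ∧ f % p = p - 1) := by
      rcases hc with ⟨hs, -, hc⟩ | ⟨hs, hc⟩
      · exact Or.inl ⟨hs, by omega⟩
      · exact Or.inr ⟨hs, hc⟩
    refine ⟨n1, na, nb + 1, sa, s, h1, by omega, by omega, h4, h7, hna, fun _ => hs, ?_⟩
    by_cases h0 : nb = 0
    · rw [h0] at h13 ⊢
      push_cast at h13 ⊢
      linear_combination h13
    · have : sb = s := by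
        rcases hnb h0 with h | h <;> rcases hs with h' | h'
        · rw [h.1, h'.1]
        · have := h.2; have := h'.2; omega
        · have := h.2; have := h'.2; omega
        · rw [h.1, h'.1]
      rw [this] at h13
      push_cast at h13 ⊢
      linear_combination h13

theorem chkQ_sound {N p N1 : ℕ} {L : List (ℕ × ℕ)} {a b : ℕ} (hp : 2 < p) (hodd : p % 2 = 1) (hN1 : N1 ≤ 2)
    (h : chkQ N p N1 L a = true) (h3b : 3 ≤ b) (hb : b ∣ N) (hR : Rel2 p (p - 1) N1 a b) : (a, b) ∈ L := by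
  obtain ⟨n1, na, nb, sa, sb, h1, h2, h3, h4, h5, hna, hnb, h13⟩ := norm_Q hp hR
  obtain ⟨i, rfl⟩ : ∃ i, n1 = i + 1 := ⟨n1 - 1, by omega⟩
  have hk := List.all_eq_true.1 (List.all_eq_true.1 h i (List.mem_range.2 (by omega))) na (List.mem_range.2 (by omega))
  obtain ⟨X, hX⟩ : ∃ X : ℕ, X = na * a := ⟨_, rfl⟩
  obtain ⟨Y, hY⟩ : ∃ Y : ℕ, Y = nb * b := ⟨_, rfl⟩
  have hXz : (na : ℤ) * a = X := by rw [hX]; push_cast; ring
  have hYz : (nb : ℤ) * b = Y := by rw [hY]; push_cast; ring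
  have heq : ((i : ℤ) + 1) + sa * X + sb * Y = 0 := by
    rw [← hXz, ← hYz]
    push_cast at h13
    linear_combination h13
  have hrb : nb ≠ 0 → (b % p = 1 ∨ b % p = p - 1) := fun hne => by rcases hnb hne with h | h <;> simp [h.2]
  have hm : p - (i + 1) - na = nb := by omega
  have hna0 : na ≠ 0 := by
    intro h0
    have hX0 : X = 0 := by rw [hX, h0, zero_mul]
    rw [hX0] at heq
    by_cases hnb0 : nb = 0
    · have hY0 : Y = 0 := by rw [hY, hnb0, zero_mul]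
      rw [hY0] at heq
      omega
    · have h20 := mul_le_of hY hnb0
      by_cases h21 : nb = 1
      · have h22 : Y = b := by rw [hY, h21, one_mul]
        rcases h5 with rfl | rfl
        · omega
        · omega
      · have h22 : 2 * b ≤ Y := by rw [hY]; exact Nat.mul_le_mul_right _ (by omega)
        rcases h5 with rfl | rfl <;> omega
  rw [hm, ← hX] at hk
  rcases hna hna0 with ⟨rfl, hr⟩ | ⟨rfl, hr⟩
  · have hb2 : (a % p == 1) = true := by simp [hr]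
    rw [hb2, cond_true] at hk
    refine solB_sound hk ?_ h3b hb hrb
    rw [← hY]
    rcases h5 with rfl | rfl <;> omega
  · have hb2 : (a % p == 1) = false := by
      rw [hr]; simp; omega
    have hb3 : (a % p == p - 1) = true := by simp [hr]
    rw [hb2, cond_false, hb3, cond_true] at hk
    refine solB_sound hk ?_ h3b hb hrb
    rw [← hY, ad]
    rcases h5 with rfl | rfl <;> omega

/-! ### divisors -/

/-- the divisors of a product of prime powers -/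
def divs : List (ℕ × ℕ) → List ℕ
  | [] => [1]
  | x :: l => (divs l).flatMap fun d => (List.range (x.2 + 1)).map fun i => d * x.1 ^ i

/-- the product of prime powers -/
def prodl : List (ℕ × ℕ) → ℕ
  | [] => 1
  | x :: l => x.1 ^ x.2 * prodl l

theorem mem_divs : ∀ {l : List (ℕ × ℕ)}, (∀ x ∈ l, (x.1).Prime) → ∀ {n : ℕ}, n ∣ prodl l → n ∈ divs l
  | [], _, n, h => by
    rw [prodl, Nat.dvd_one] at h
    rw [h, divs]
    exact List.mem_singleton_self 1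
  | x :: l, hl, n, h => by
    rw [prodl] at h
    obtain ⟨y, z, hy, hz, rfl⟩ := (Nat.dvd_mul).1 h
    obtain ⟨i, hi, rfl⟩ := (Nat.dvd_prime_pow (hl x List.mem_cons_self)).1 hy
    rw [divs, List.mem_flatMap]
    refine ⟨z, mem_divs (fun w hw => hl w (List.mem_cons_of_mem _ hw)) hz, ?_⟩
    rw [List.mem_map]
    exact ⟨i, List.mem_range.2 (by omega), mul_comm _ _⟩

/-! ### the check -/

/-- the check of the list `L` of pairs for the prime `p` -/
def chkP (N p N1 : ℕ) (D : List ℕ) (L : List (ℕ × ℕ)) : Bool :=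
  (D.all fun a => Nat.ble a 2 || chkQ N p N1 L a) &&
    ((List.range (p - 1)).all fun e => Nat.blt e 2 || (p - 1) % e != 0 ||
      D.all fun a => Nat.ble a 2 || chkE N p e N1 L a)

/-- the pair of the degrees prime to `p` is in `L` -/
def inT (p : ℕ) (L : List (ℕ × ℕ)) (a b c : ℕ) : Bool :=
  (c % p == 0 && L.contains (a, b)) || (a % p == 0 && L.contains (b, c)) || (b % p == 0 && L.contains (c, a))

/-- the final check of one triple -/
def fin3 (l : List (ℕ × ℕ)) (Ps : List (ℕ × List (ℕ × ℕ))) (S : List (ℕ × ℕ × ℕ)) (a b c : ℕ) : Bool :=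
  !(l.all fun r => a % r.1 == 0 || b % r.1 == 0 || c % r.1 == 0) || !(Ps.all fun P => inT P.1 P.2 a b c) ||
    S.contains (a, b, c)

/-- the final check: `L1` for `p1`, `L2` for `p2`, the other primes in `Ps` -/
def chkT (l : List (ℕ × ℕ)) (D : List ℕ) (p1 : ℕ) (L1 : List (ℕ × ℕ)) (p2 : ℕ) (L2 : List (ℕ × ℕ))
    (Ps : List (ℕ × List (ℕ × ℕ))) (S : List (ℕ × ℕ × ℕ)) : Bool :=
  L1.all fun x =>
    (x.1 % p2 != 0 || L2.all fun y => y.1 != x.2 || y.2 % p1 != 0 || fin3 l Ps S x.1 x.2 y.2) &&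
    (x.2 % p2 != 0 || L2.all fun y => y.2 != x.1 || y.1 % p1 != 0 || fin3 l Ps S x.1 x.2 y.1) &&
    (!L2.contains x || D.all fun c => c % p1 != 0 || c % p2 != 0 || fin3 l Ps S x.1 x.2 c)

/-- all checks -/
def master (l : List (ℕ × ℕ)) (N N1 p1 : ℕ) (L1 : List (ℕ × ℕ)) (p2 : ℕ) (L2 : List (ℕ × ℕ))
    (Ps : List (ℕ × List (ℕ × ℕ))) (S : List (ℕ × ℕ × ℕ)) : Bool :=
  prodl l == N && Nat.ble N1 2 && (Nat.blt 2 p1 && p1 % 2 == 1 && chkP N p1 N1 (divs l) L1) &&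
    (Nat.blt 2 p2 && p2 % 2 == 1 && chkP N p2 N1 (divs l) L2) &&
    (Ps.all fun P => Nat.blt 2 P.1 && P.1 % 2 == 1 && chkP N P.1 N1 (divs l) P.2) &&
    chkT l (divs l) p1 L1 p2 L2 Ps S

theorem chkP_sound {N p N1 : ℕ} {D : List ℕ} {L : List (ℕ × ℕ)} (hD : ∀ d, d ∣ N → d ∈ D) (hN1 : N1 ≤ 2)
    (hp : 2 < p) (hodd : p % 2 = 1)
    (h : chkP N p N1 D L = true) {a b c : ℕ} (ha : a ∣ N) (hb : b ∣ N) (h3a : 3 ≤ a) (h3b : 3 ≤ b) (hc : p ∣ c)
    (hR : ∃ e, 2 ≤ e ∧ e ∣ p - 1 ∧ Rel p e N1 a b c) : (a, b) ∈ L := by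
  obtain ⟨e, h2, hd, hR⟩ := hR
  have hep : e < p := by
    have := Nat.le_of_dvd (by omega) hd
    omega
  have hR2 := hR.two (by omega) (by omega) hep hc
  unfold chkP at h
  rw [Bool.and_eq_true] at h
  have hb3 : Nat.ble a 2 = false := by
    rw [← Bool.not_eq_true, Nat.ble_eq]; omega
  by_cases he1 : e = p - 1
  · subst he1
    have h1 := List.all_eq_true.1 h.1 a (hD a ha)
    rw [hb3, Bool.false_or] at h1
    exact chkQ_sound hp hodd hN1 h1 h3b hb hR2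
  · have h4 := List.all_eq_true.1 h.2 e (List.mem_range.2 (by omega))
    have hb1 : Nat.blt e 2 = false := by
      rw [← Bool.not_eq_true, Nat.blt_eq]; omega
    have hb2 : ((p - 1) % e != 0) = false := by
      rw [Nat.mod_eq_zero_of_dvd hd]; rfl
    rw [hb1, hb2, Bool.false_or, Bool.false_or] at h4
    have h1 := List.all_eq_true.1 h4 a (hD a ha)
    rw [hb3, Bool.false_or] at h1
    exact chkE_sound hp hodd hN1 h2 hep he1 h1 h3b hb hR2

theorem Rel'.rot {p N1 a b c : ℕ} (h : ∃ e, 2 ≤ e ∧ e ∣ p - 1 ∧ Rel p e N1 a b c) :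
    ∃ e, 2 ≤ e ∧ e ∣ p - 1 ∧ Rel p e N1 b c a := by
  obtain ⟨e, h1, h2, h3⟩ := h
  exact ⟨e, h1, h2, h3.rot⟩

theorem inT_of {N p N1 : ℕ} {D : List ℕ} {L : List (ℕ × ℕ)} (hD : ∀ d, d ∣ N → d ∈ D) (hN1 : N1 ≤ 2)
    (hp : 2 < p) (hodd : p % 2 = 1)
    (h : chkP N p N1 D L = true) {a b c : ℕ} (ha : a ∣ N) (hb : b ∣ N) (hc : c ∣ N) (h3a : 3 ≤ a) (h3b : 3 ≤ b)
    (h3c : 3 ≤ c) (hd : p ∣ a ∨ p ∣ b ∨ p ∣ c) (hR : ∃ e, 2 ≤ e ∧ e ∣ p - 1 ∧ Rel p e N1 a b c) :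
    (p ∣ c ∧ (a, b) ∈ L) ∨ (p ∣ a ∧ (b, c) ∈ L) ∨ (p ∣ b ∧ (c, a) ∈ L) := by
  rcases hd with hd | hd | hd
  · exact Or.inr (Or.inl ⟨hd, chkP_sound hD hN1 hp hodd h hb hc h3b h3c hd (Rel'.rot hR)⟩)
  · exact Or.inr (Or.inr ⟨hd, chkP_sound hD hN1 hp hodd h hc ha h3c h3a hd (Rel'.rot (Rel'.rot hR))⟩)
  · exact Or.inl ⟨hd, chkP_sound hD hN1 hp hodd h ha hb h3a h3b hd hR⟩

theorem inT_eq {p : ℕ} {L : List (ℕ × ℕ)} {a b c : ℕ}
    (h : (p ∣ c ∧ (a, b) ∈ L) ∨ (p ∣ a ∧ (b, c) ∈ L) ∨ (p ∣ b ∧ (c, a) ∈ L)) : inT p L a b c = true := by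
  unfold inT
  rcases h with h | h | h
  · simp [Nat.mod_eq_zero_of_dvd h.1, h.2]
  · simp [Nat.mod_eq_zero_of_dvd h.1, h.2]
  · simp [Nat.mod_eq_zero_of_dvd h.1, h.2]

theorem fin3_sound {l : List (ℕ × ℕ)} {Ps : List (ℕ × List (ℕ × ℕ))} {S : List (ℕ × ℕ × ℕ)} {a b c : ℕ}
    (h : fin3 l Ps S a b c = true) (hd : ∀ x ∈ l, x.1 ∣ a ∨ x.1 ∣ b ∨ x.1 ∣ c)
    (hPs : ∀ P ∈ Ps, inT P.1 P.2 a b c = true) : (a, b, c) ∈ S := by
  unfold fin3 at h
  have h4 : (l.all fun r => a % r.1 == 0 || b % r.1 == 0 || c % r.1 == 0) = true := by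
    rw [List.all_eq_true]
    intro x hx
    simp only [Bool.or_eq_true, beq_iff_eq]
    rcases hd x hx with h | h | h
    · exact Or.inl (Or.inl (Nat.mod_eq_zero_of_dvd h))
    · exact Or.inl (Or.inr (Nat.mod_eq_zero_of_dvd h))
    · exact Or.inr (Nat.mod_eq_zero_of_dvd h)
  have h2 : (Ps.all fun P => inT P.1 P.2 a b c) = true := by
    rw [List.all_eq_true]
    exact hPs
  rw [h2, h4] at h
  simpa [List.contains_iff_mem] using h

theorem survive_aux {l : List (ℕ × ℕ)} (hl : ∀ x ∈ l, (x.1).Prime) {N N1 p1 p2 : ℕ} {L1 L2 : List (ℕ × ℕ)}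
    {Ps : List (ℕ × List (ℕ × ℕ))} {S : List (ℕ × ℕ × ℕ)} (h : master l N N1 p1 L1 p2 L2 Ps S = true)
    {a b c : ℕ} (ha : a ∣ N) (hb : b ∣ N) (hc : c ∣ N) (h3a : 3 ≤ a) (h3b : 3 ≤ b) (h3c : 3 ≤ c)
    (hd : ∀ x ∈ l, x.1 ∣ a ∨ x.1 ∣ b ∨ x.1 ∣ c) (hd1 : p1 ∣ c) (hd2 : p2 ∣ a ∨ p2 ∣ b ∨ p2 ∣ c)
    (hdp : ∀ P ∈ Ps, P.1 ∣ a ∨ P.1 ∣ b ∨ P.1 ∣ c)
    (hR1 : ∃ e, 2 ≤ e ∧ e ∣ p1 - 1 ∧ Rel p1 e N1 a b c)
    (hR2 : ∃ e, 2 ≤ e ∧ e ∣ p2 - 1 ∧ Rel p2 e N1 a b c)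
    (hR : ∀ P ∈ Ps, ∃ e, 2 ≤ e ∧ e ∣ P.1 - 1 ∧ Rel P.1 e N1 a b c) : (a, b, c) ∈ S := by
  unfold master at h
  simp only [Bool.and_eq_true, beq_iff_eq] at h
  obtain ⟨⟨⟨⟨⟨hN, hN1⟩, ⟨hp1, ho1⟩, hP1⟩, ⟨hp2, ho2⟩, hP2⟩, hPs⟩, hT⟩ := h
  rw [Nat.ble_eq] at hN1
  rw [Nat.blt_eq] at hp1 hp2
  have hD : ∀ d, d ∣ N → d ∈ divs l := fun d hd => mem_divs hl (by rwa [hN])
  have h1 := chkP_sound hD hN1 hp1 ho1 hP1 ha hb h3a h3b hd1 hR1
  have h2 := inT_of hD hN1 hp2 ho2 hP2 ha hb hc h3a h3b h3c hd2 hR2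
  have h3 : ∀ P ∈ Ps, inT P.1 P.2 a b c = true := by
    intro P hP
    have h3 := List.all_eq_true.1 hPs P hP
    simp only [Bool.and_eq_true, Nat.blt_eq, beq_iff_eq] at h3
    exact inT_eq (inT_of hD hN1 h3.1.1 h3.1.2 h3.2 ha hb hc h3a h3b h3c (hdp P hP) (hR P hP))
  unfold chkT at hT
  have h5 := List.all_eq_true.1 hT (a, b) h1
  simp only [Bool.and_eq_true, Bool.or_eq_true, bne_iff_ne, ne_eq, Bool.not_eq_true', List.contains_eq_mem,
    decide_eq_false_iff_not] at h5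
  obtain ⟨⟨k1, k2⟩, k3⟩ := h5
  have hc1 : c % p1 = 0 := Nat.mod_eq_zero_of_dvd hd1
  rcases h2 with h2 | h2 | h2
  · have k := List.all_eq_true.1 (k3.resolve_left (fun h => h h2.2)) c (hD c hc)
    rw [Nat.mod_eq_zero_of_dvd h2.1, hc1] at k
    exact fin3_sound (by simpa using k) hd h3
  · have k := List.all_eq_true.1 (k1.resolve_left (fun h => h (Nat.mod_eq_zero_of_dvd h2.1))) (b, c) h2.2
    simp only [bne_self_eq_false, Bool.false_or, hc1] at k
    exact fin3_sound k hd h3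
  · have k := List.all_eq_true.1 (k2.resolve_left (fun h => h (Nat.mod_eq_zero_of_dvd h2.1))) (c, a) h2.2
    simp only [bne_self_eq_false, Bool.false_or, hc1] at k
    exact fin3_sound k hd h3

/-- **The surviving triples** -/
theorem survive {l : List (ℕ × ℕ)} (hl : ∀ x ∈ l, (x.1).Prime) {N N1 p1 p2 : ℕ} {L1 L2 : List (ℕ × ℕ)}
    {Ps : List (ℕ × List (ℕ × ℕ))} {S : List (ℕ × ℕ × ℕ)} (h : master l N N1 p1 L1 p2 L2 Ps S = true)
    {a b c : ℕ} (ha : a ∣ N) (hb : b ∣ N) (hc : c ∣ N) (h3a : 3 ≤ a) (h3b : 3 ≤ b) (h3c : 3 ≤ c)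
    (hd : ∀ x ∈ l, x.1 ∣ a ∨ x.1 ∣ b ∨ x.1 ∣ c)
    (hd1 : p1 ∣ a ∨ p1 ∣ b ∨ p1 ∣ c) (hd2 : p2 ∣ a ∨ p2 ∣ b ∨ p2 ∣ c)
    (hdp : ∀ P ∈ Ps, P.1 ∣ a ∨ P.1 ∣ b ∨ P.1 ∣ c)
    (hR1 : ∃ e, 2 ≤ e ∧ e ∣ p1 - 1 ∧ Rel p1 e N1 a b c)
    (hR2 : ∃ e, 2 ≤ e ∧ e ∣ p2 - 1 ∧ Rel p2 e N1 a b c)
    (hR : ∀ P ∈ Ps, ∃ e, 2 ≤ e ∧ e ∣ P.1 - 1 ∧ Rel P.1 e N1 a b c) :
    (a, b, c) ∈ S ∨ (b, c, a) ∈ S ∨ (c, a, b) ∈ S := by
  have r : ∀ {x y z w : ℕ}, (w ∣ x ∨ w ∣ y ∨ w ∣ z) → (w ∣ y ∨ w ∣ z ∨ w ∣ x) := fun h => by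
    rcases h with h | h | h
    · exact Or.inr (Or.inr h)
    · exact Or.inl h
    · exact Or.inr (Or.inl h)
  rcases hd1 with h1 | h1 | h1
  · right; left
    exact survive_aux hl h hb hc ha h3b h3c h3a (fun x hx => r (hd x hx)) h1 (r hd2) (fun P hP => r (hdp P hP))
      (Rel'.rot hR1) (Rel'.rot hR2) (fun P hP => Rel'.rot (hR P hP))
  · right; right
    exact survive_aux hl h hc ha hb h3c h3a h3b (fun x hx => r (r (hd x hx))) h1 (r (r hd2))
      (fun P hP => r (r (hdp P hP))) (Rel'.rot (Rel'.rot hR1)) (Rel'.rot (Rel'.rot hR2))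
      (fun P hP => Rel'.rot (Rel'.rot (hR P hP)))
  · left
    exact survive_aux hl h ha hb hc h3a h3b h3c hd h1 hd2 hdp hR1 hR2 hR

/-! ### fast versions for the kernel -/

/-- forces the evaluation of a number -/
def frc {α : Type} (n : ℕ) (f : ℕ → α) : α := Nat.rec (f 0) (fun k _ => f (Nat.succ k)) n

theorem frc_eq {α : Type} (n : ℕ) (f : ℕ → α) : frc n f = f n := by cases n <;> rfl

theorem bq (x y : ℕ) : Nat.beq x y = (x == y) := by
  rw [Bool.eq_iff_iff, Nat.beq_eq, beq_iff_eq]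

/-- membership -/
def memF (L : List (ℕ × ℕ)) (a b : ℕ) : Bool := L.any fun x => Nat.beq x.1 a && Nat.beq x.2 b

theorem memF_eq (L : List (ℕ × ℕ)) (a b : ℕ) : memF L a b = L.contains (a, b) := by
  rw [Bool.eq_iff_iff, memF, List.any_eq_true, List.contains_iff_mem]
  constructor
  · rintro ⟨⟨x, y⟩, hx, h⟩
    simp only [Bool.and_eq_true, Nat.beq_eq] at h
    rw [← h.1, ← h.2]
    exact hx
  · intro h
    exact ⟨_, h, by simp⟩

def solF (N p : ℕ) (L : List (ℕ × ℕ)) (a t m r1 r2 : ℕ) : Bool :=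
  frc (Nat.mod t m) fun u => (!Nat.beq u 0) || frc (Nat.div t m) fun q => (!Nat.beq q 0) && (Nat.ble q 2 ||
    frc (Nat.mod q p) fun r => ((!Nat.beq r r1) && (!Nat.beq r r2)) || (!Nat.beq (Nat.mod N q) 0) || memF L a q)

theorem solF_eq (N p : ℕ) (L : List (ℕ × ℕ)) (a t m r1 r2 : ℕ) : solF N p L a t m r1 r2 = solB N p L a t m r1 r2 := by
  have h1 : ∀ x y : ℕ, Nat.mod x y = x % y := fun _ _ => rfl
  have h2 : ∀ x y : ℕ, Nat.div x y = x / y := fun _ _ => rfl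
  simp only [solF, solB, frc_eq, bne, bq, memF_eq, Bool.or_assoc, h1, h2]

def chkEF (N p e N1 : ℕ) (L : List (ℕ × ℕ)) (a r : ℕ) : Bool :=
  (List.range N1).all fun i =>
    (bif Nat.beq r 1 then frc (Nat.add (i + 1) (Nat.mul (e - (i + 1)) a)) fun t => solF N p L a t 1 e (p - e) else
      bif Nat.beq r (p - 1) then frc (ad (i + 1) (Nat.mul (e - (i + 1)) a)) fun t => solF N p L a t 1 e (p - e)
      else true) &&
    (bif Nat.beq r e then frc (ad (i + 1) a) fun t => frc (e - (i + 1)) fun m => solF N p L a t m 1 (p - 1) else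
      bif Nat.beq r (p - e) then frc (i + 1 + a) fun t => frc (e - (i + 1)) fun m => solF N p L a t m 1 (p - 1)
      else true)

theorem chkEF_eq (N p e N1 : ℕ) (L : List (ℕ × ℕ)) (a : ℕ) : chkEF N p e N1 L a (a % p) = chkE N p e N1 L a := by
  have h1 : ∀ x y : ℕ, Nat.add x y = x + y := fun _ _ => rfl
  have h2 : ∀ x y : ℕ, Nat.mul x y = x * y := fun _ _ => rfl
  simp only [chkEF, chkE, frc_eq, bq, solF_eq, h1, h2]

def chkQF (N p N1 : ℕ) (L : List (ℕ × ℕ)) (a r : ℕ) : Bool :=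
  (!(Nat.beq r 1 || Nat.beq r (p - 1))) ||
  (List.range (N1 + 1)).all fun j => (List.range (p - j)).all fun na =>
    bif Nat.beq r 1 then frc (Nat.add (j + 1) (Nat.mul na a)) fun t => frc (p - (j + 1) - na) fun m =>
      solF N p L a t m 1 (p - 1)
    else frc (ad (j + 1) (Nat.mul na a)) fun t => frc (p - (j + 1) - na) fun m => solF N p L a t m 1 (p - 1)

theorem chkQF_sound {N p N1 : ℕ} {L : List (ℕ × ℕ)} {a : ℕ} (h : chkQF N p N1 L a (a % p) = true) :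
    chkQ N p N1 L a = true := by
  have h1 : ∀ x y : ℕ, Nat.add x y = x + y := fun _ _ => rfl
  have h2 : ∀ x y : ℕ, Nat.mul x y = x * y := fun _ _ => rfl
  simp only [chkQF, frc_eq, bq, solF_eq, h1, h2] at h
  unfold chkQ
  rw [List.all_eq_true]
  intro j hj
  rw [List.all_eq_true]
  intro na hna
  cases h3 : a % p == 1
  · cases h4 : a % p == p - 1
    · rfl
    · rw [h3, h4] at h
      simp only [Bool.false_or, Bool.not_true, cond_false] at h
      have h5 := List.all_eq_true.1 (List.all_eq_true.1 h j hj) na hna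
      simpa using h5
  · rw [h3] at h
    simp only [Bool.true_or, Bool.not_true, Bool.false_or, cond_true] at h
    have h5 := List.all_eq_true.1 (List.all_eq_true.1 h j hj) na hna
    simpa using h5

def chkPF (N p N1 : ℕ) (D : List ℕ) (L : List (ℕ × ℕ)) : Bool :=
  (D.all fun a => frc a fun a => Nat.ble a 2 || frc (Nat.mod a p) fun r => chkQF N p N1 L a r) &&
    ((List.range (p - 1)).all fun e => Nat.blt e 2 || !(Nat.beq ((p - 1) % e) 0) ||
      D.all fun a => frc a fun a => Nat.ble a 2 || frc (Nat.mod a p) fun r => chkEF N p e N1 L a r)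

theorem chkPF_sound {N p N1 : ℕ} {D : List ℕ} {L : List (ℕ × ℕ)} (h : chkPF N p N1 D L = true) :
    chkP N p N1 D L = true := by
  have h0 : ∀ x y : ℕ, Nat.mod x y = x % y := fun _ _ => rfl
  simp only [chkPF, frc_eq, h0, bq, Bool.and_eq_true, chkEF_eq] at h
  unfold chkP
  rw [Bool.and_eq_true]
  refine ⟨?_, h.2⟩
  rw [List.all_eq_true]
  intro a ha
  have h1 := List.all_eq_true.1 h.1 a ha
  rw [Bool.or_eq_true] at h1 ⊢
  rcases h1 with h1 | h1
  · exact Or.inl h1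
  · exact Or.inr (chkQF_sound h1)

def inTF (p : ℕ) (L : List (ℕ × ℕ)) (a b c : ℕ) : Bool :=
  (Nat.beq (c % p) 0 && memF L a b) || (Nat.beq (a % p) 0 && memF L b c) || (Nat.beq (b % p) 0 && memF L c a)

theorem inTF_eq (p : ℕ) (L : List (ℕ × ℕ)) (a b c : ℕ) : inTF p L a b c = inT p L a b c := by
  simp only [inTF, inT, bq, memF_eq]

def fin3F (l : List (ℕ × ℕ)) (Ps : List (ℕ × List (ℕ × ℕ))) (S : List (ℕ × ℕ × ℕ)) (a b c : ℕ) : Bool :=
  !(l.all fun r => Nat.beq (a % r.1) 0 || Nat.beq (b % r.1) 0 || Nat.beq (c % r.1) 0) ||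
    !(Ps.all fun P => inTF P.1 P.2 a b c) || S.contains (a, b, c)

theorem fin3F_eq (l : List (ℕ × ℕ)) (Ps : List (ℕ × List (ℕ × ℕ))) (S : List (ℕ × ℕ × ℕ)) (a b c : ℕ) :
    fin3F l Ps S a b c = fin3 l Ps S a b c := by
  simp only [fin3F, fin3, bq, inTF_eq]

def chkTF (l : List (ℕ × ℕ)) (D : List ℕ) (p1 : ℕ) (L1 : List (ℕ × ℕ)) (p2 : ℕ) (L2 : List (ℕ × ℕ))
    (Ps : List (ℕ × List (ℕ × ℕ))) (S : List (ℕ × ℕ × ℕ)) : Bool :=
  L1.all fun x =>
    ((!Nat.beq (x.1 % p2) 0) || L2.all fun y => (!Nat.beq y.1 x.2) || (!Nat.beq (y.2 % p1) 0) ||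
      fin3F l Ps S x.1 x.2 y.2) &&
    ((!Nat.beq (x.2 % p2) 0) || L2.all fun y => (!Nat.beq y.2 x.1) || (!Nat.beq (y.1 % p1) 0) ||
      fin3F l Ps S x.1 x.2 y.1) &&
    (!memF L2 x.1 x.2 || D.all fun c => frc c fun c => (!Nat.beq (c % p1) 0) || (!Nat.beq (c % p2) 0) ||
      fin3F l Ps S x.1 x.2 c)

theorem chkTF_eq (l : List (ℕ × ℕ)) (D : List ℕ) (p1 : ℕ) (L1 : List (ℕ × ℕ)) (p2 : ℕ) (L2 : List (ℕ × ℕ))
    (Ps : List (ℕ × List (ℕ × ℕ))) (S : List (ℕ × ℕ × ℕ)) : chkTF l D p1 L1 p2 L2 Ps S = chkT l D p1 L1 p2 L2 Ps S := by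
  simp only [chkTF, chkT, frc_eq, bne, bq, fin3F_eq, memF_eq]

/-- all checks, fast -/
def masterF (l : List (ℕ × ℕ)) (N N1 p1 : ℕ) (L1 : List (ℕ × ℕ)) (p2 : ℕ) (L2 : List (ℕ × ℕ))
    (Ps : List (ℕ × List (ℕ × ℕ))) (S : List (ℕ × ℕ × ℕ)) : Bool :=
  Nat.beq (prodl l) N && Nat.ble N1 2 && (Nat.blt 2 p1 && Nat.beq (p1 % 2) 1 && chkPF N p1 N1 (divs l) L1) &&
    (Nat.blt 2 p2 && Nat.beq (p2 % 2) 1 && chkPF N p2 N1 (divs l) L2) &&
    (Ps.all fun P => Nat.blt 2 P.1 && Nat.beq (P.1 % 2) 1 && chkPF N P.1 N1 (divs l) P.2) &&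
    chkTF l (divs l) p1 L1 p2 L2 Ps S

theorem masterF_sound {l : List (ℕ × ℕ)} {N N1 p1 p2 : ℕ} {L1 L2 : List (ℕ × ℕ)} {Ps : List (ℕ × List (ℕ × ℕ))}
    {S : List (ℕ × ℕ × ℕ)} (h : masterF l N N1 p1 L1 p2 L2 Ps S = true) : master l N N1 p1 L1 p2 L2 Ps S = true := by
  unfold masterF at h
  unfold master
  simp only [Bool.and_eq_true, bq, chkTF_eq, List.all_eq_true] at h ⊢
  obtain ⟨⟨⟨⟨h1, h2⟩, h3⟩, h4⟩, h5⟩ := h
  exact ⟨⟨⟨⟨h1, h2.1, chkPF_sound h2.2⟩, h3.1, chkPF_sound h3.2⟩, fun P hP => ⟨(h4 P hP).1, chkPF_sound (h4 P hP).2⟩⟩,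
    h5⟩

end Cfsg.Agent.H118.FD
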