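import Cfsg.Agent.H118.FD.Arith
import Cfsg.Agent.H638.FD.Blk
import Cfsg.Agent.H681.SimpleChar
import Cfsg.Agent.H33.IM
import Cfsg.Agent.H597.IndexP
import Cfsg.Agent.H597.Norm
import Cfsg.Agent.H498.SporOut
import Cfsg.Agent.H424.DegTools

/-!
# Four character degrees: groups with a simple socle of index at most two (helper118, for S4898)

`triple` : the triples of degrees surviving the numerical elimination of `H118.FD.Arith`.
-/

set_option autoImplicit false
set_option linter.unusedSectionVars false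

namespace Cfsg.Agent.H118.FD

open Subgroup Cfsg Cfsg.Agent.Characters.Core
open scoped commutatorElement

universe u

/-- `M` is simple of order `N0`, normal of index at most two. -/
structure Soc {G : Type u} [Group G] (M : Subgroup G) (N0 : ℕ) : Prop where
  normal : M.Normal
  simple : IsSimpleGroup M
  nonab : ¬ ∀ a b : M, a * b = b * a
  idx : M.index ∣ 2
  card : Nat.card M = N0

section

variable {G : Type u} [Group G] [Finite G] {M : Subgroup G} {N0 : ℕ}

theorem Soc.perfect (S : Soc M N0) : commutator M = ⊤ := by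
  have := S.simple
  rcases (inferInstance : (commutator M).Normal).eq_bot_or_eq_top with h | h
  · exfalso
    apply S.nonab
    intro a b
    have h2 : ⁅a, b⁆ ∈ commutator M := commutator_mem_commutator (mem_top a) (mem_top b)
    rw [h, mem_bot, commutatorElement_eq_one_iff_mul_comm] at h2
    exact h2
  · exact h

theorem Soc.le_commutator (S : Soc M N0) : M ≤ commutator G := by
  intro x hx
  have h1 : (⟨x, hx⟩ : M) ∈ commutator M := by rw [S.perfect]; exact mem_top _
  have h2 : (commutator M).map M.subtype ≤ commutator G := by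
    rw [commutator_def, commutator_def, map_commutator]
    exact commutator_mono le_top le_top
  exact h2 ⟨_, h1, rfl⟩

theorem Soc.index_commutator (S : Soc M N0) : (commutator G).index ≤ 2 :=
  Nat.le_of_dvd (by norm_num) ((index_dvd_of_le S.le_commutator).trans S.idx)

theorem Soc.index_le (S : Soc M N0) : M.index ≤ 2 := Nat.le_of_dvd (by norm_num) S.idx

theorem Soc.card_dvd (S : Soc M N0) : Nat.card G ∣ 2 * N0 := by
  rw [← M.index_mul_card, S.card]
  exact Nat.mul_dvd_mul_right S.idx _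

theorem Soc.dvd_card (S : Soc M N0) : N0 ∣ Nat.card G := by
  rw [← S.card]; exact card_subgroup_dvd_card M

/-- the order of a Sylow subgroup -/
theorem Soc.card_sylow (S : Soc M N0) {p : ℕ} [hp : Fact p.Prime] (hp2 : p ≠ 2) (hd : p ∣ N0) (hsq : ¬ p ^ 2 ∣ N0)
    (P : Sylow p G) : Nat.card P = p := by
  have h1 : p ^ 1 ∣ Nat.card G := by rw [pow_one]; exact hd.trans S.dvd_card
  have h2 : ¬ p ^ 2 ∣ Nat.card G := by
    intro h
    have h3 := h.trans S.card_dvd
    have h4 : Nat.Coprime (p ^ 2) 2 := Nat.Coprime.pow_left 2 ((Nat.coprime_primes hp.out Nat.prime_two).2 hp2)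
    exact hsq (h4.dvd_of_dvd_mul_left h3)
  have h3 := (hp.out.pow_dvd_iff_le_factorization Nat.card_pos.ne').1 h1
  have h4 : ¬ 2 ≤ (Nat.card G).factorization p := fun h =>
    h2 ((hp.out.pow_dvd_iff_le_factorization Nat.card_pos.ne').2 h)
  rw [P.card_eq_multiplicity, show (Nat.card G).factorization p = 1 by omega, pow_one]

/-- no normal subgroup of odd prime index -/
theorem Soc.index_ne (S : Soc M N0) {p : ℕ} (hp : p.Prime) (hp2 : p ≠ 2) (N : Subgroup G) (hN : N.Normal) :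
    N.index ≠ p := by
  intro h
  have h1 : (commutator G) ≤ N := by
    have hc : Nat.card (G ⧸ N) = p := h
    have : Fact p.Prime := ⟨hp⟩
    have hcyc : IsCyclic (G ⧸ N) := isCyclic_of_prime_card hc
    have hcomm : IsMulCommutative (G ⧸ N) := IsCyclic.isMulCommutative
    rw [commutator_def, commutator_le]
    intro a _ b _
    rw [← QuotientGroup.eq_one_iff, ← QuotientGroup.mk'_apply, map_commutatorElement, commutatorElement_eq_one_iff_mul_comm]
    exact hcomm.is_comm.comm _ _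
  have h2 := index_dvd_of_le (S.le_commutator.trans h1)
  rw [h] at h2
  exact hp2 ((Nat.prime_dvd_prime_iff_eq hp Nat.prime_two).1 (h2.trans S.idx))

/-- the relation with some `e ≥ 2` -/
theorem Soc.rel (S : Soc M N0) {p : ℕ} (hp : p.Prime) (hp2 : p ≠ 2) (hd : p ∣ N0) (hsq : ¬ p ^ 2 ∣ N0)
    {a b c : ℕ} (hcd : charDegrees G ⊆ {1, a, b, c}) (ha : a ≠ 1) (hb : b ≠ 1) (hc' : c ≠ 1) (hab : a ≠ b)
    (hac : a ≠ c) (hbc : b ≠ c) : ∃ e, 2 ≤ e ∧ e ∣ p - 1 ∧ Rel p e 2 a b c := by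
  have hpf : Fact p.Prime := ⟨hp⟩
  obtain ⟨P⟩ : Nonempty (Sylow p G) := inferInstance
  have hP := S.card_sylow hp2 hd hsq P
  have hcyc : IsCyclic P := isCyclic_of_prime_card hP
  have hN := fun (N : Subgroup G) (hN : N.Normal) => S.index_ne hp hp2 N hN
  have hP1 : Nat.card P = p ^ 1 := by rw [hP, pow_one]
  set e := (centralizer ((P : Subgroup G) : Set G)).relIndex (normalizer ((P : Subgroup G) : Set G)) with he
  obtain ⟨I, hI⟩ := Blocks.ExistsModular.exists_isPModular hp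
  have hed : e ∣ p - 1 := (H638.FD.Blk.struct₀ hI P hcyc le_rfl hP1 he.symm).1
  have he1 : e ≠ 1 := by
    intro h1
    rw [he, relIndex_eq_one] at h1
    have h2 := MonoidHom.ker_transferSylow_isComplement' P h1
    exact hN _ (MonoidHom.normal_ker (MonoidHom.transferSylow P h1)) (h2.symm.index_eq_card.trans hP)
  have he0 : e ≠ 0 := by
    rintro h0
    rw [h0, zero_dvd_iff] at hed
    have := hp.two_le
    omega
  refine ⟨e, by omega, hed, ?_⟩
  obtain ⟨n1, na, nb, nc, sa, sb, sc, s, f, h1, h2, h3, h4, h5, h6, h7, h8, h9, h10, h11, h12, h13⟩ :=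
    H638.FD.Blk.degs hp2 P hcyc le_rfl hP1 he.symm hN hcd ha hb hc' hab hac hbc
  rw [pow_one] at h8 h9 h10 h12
  exact ⟨n1, na, nb, nc, f, sa, sb, sc, s, h1, h2.trans S.index_commutator, h3, h4, h5, h6, h7, h8, h9, h10, h11, h12,
    h13⟩

/-- `p` divides a degree of `G` -/
theorem Soc.im (S : Soc M N0) {p : ℕ} (hp : p.Prime) (h : H33.IM p M) : ∃ d ∈ charDegrees G, p ∣ d := by
  have := S.normal
  obtain ⟨χ, hχ⟩ := h.of_normal M
  exact ⟨_, ⟨χ, rfl⟩, hχ⟩

theorem Soc.three_le (S : Soc M N0) {d : ℕ} (hd : d ∈ charDegrees G) (h1 : d ≠ 1) : 3 ≤ d := by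
  classical
  have := S.normal
  have := S.simple
  have h0 := H424.DegTools.pos_of_mem hd
  by_contra hcon
  have h2 : d = 2 := by omega
  subst h2
  obtain ⟨χ, hχ⟩ := hd
  have := Fintype.ofFinite G
  have := Fintype.ofFinite M
  have hk : ∀ m : M, (χ : G → ℂ) m = (χ : G → ℂ) 1 := by
    intro m
    have h3 := Cfsg.Agent.H597.IndexP.commutator_le_ker_of_constituents (A := M) (ξ := (χ : G → ℂ) ∘ M.subtype)
      (isCharacter_comp M.subtype (isIrr_isCharacter χ.2)) ?_ (k := m) (by rw [S.perfect]; exact mem_top _)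
    · simpa using h3
    · intro θ hθ hne
      have h4 := H672.charDegree_dvd_of_over M χ.2 hθ ((H672.over_iff _ _ _).2 hne)
      rw [hχ] at h4
      have h5 := (Nat.dvd_prime Nat.prime_two).1 h4.1
      rcases h5 with h5 | h5
      · exact h5
      · exfalso
        exact H681.SimpleChar.degree_ne_two S.nonab ⟨⟨θ, hθ⟩, h5⟩
  have h5 := Cfsg.Agent.H597.Norm.sum_normSq_irr χ.2
  have h6 : (χ : G → ℂ) 1 = 2 := by
    rw [← H672.coe_charDegree χ.2, hχ]; norm_num
  have h7 : ∑ m : M, Complex.normSq ((χ : G → ℂ) m) ≤ ∑ g : G, Complex.normSq ((χ : G → ℂ) g) := by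
    have h8 : ∑ m : M, Complex.normSq ((χ : G → ℂ) m) =
        ∑ g ∈ Finset.univ.map (Function.Embedding.subtype fun g : G => g ∈ M), Complex.normSq ((χ : G → ℂ) g) := by
      rw [Finset.sum_map]
      rfl
    rw [h8]
    exact Finset.sum_le_sum_of_subset_of_nonneg (Finset.subset_univ _) fun _ _ _ => Complex.normSq_nonneg _
  have h9 : ∑ m : M, Complex.normSq ((χ : G → ℂ) m) = 4 * Nat.card M := by
    rw [Finset.sum_congr rfl fun m _ => by rw [hk m, h6]]
    simp [Complex.normSq_apply, Nat.card_eq_fintype_card]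
    ring
  rw [h5, h9] at h7
  have h10 : 4 * Nat.card M ≤ Nat.card G := by exact_mod_cast h7
  have h11 := M.index_mul_card
  have h12 := S.index_le
  have h13 : 0 < Nat.card M := Nat.card_pos
  nlinarith

/-- three distinct numbers `≥ 3` dividing `2 N0` and containing the nonlinear degrees -/
theorem Soc.exists_three (S : Soc M N0) (hlt : (charDegrees G).ncard < 5) {D : Finset ℕ} (hD : 3 ≤ D.card)
    (hDn : ∀ d ∈ D, d ∣ 2 * N0 ∧ 3 ≤ d) :
    ∃ a b c : ℕ, charDegrees G ⊆ {1, a, b, c} ∧ a ≠ b ∧ a ≠ c ∧ b ≠ c ∧ (a ∣ 2 * N0 ∧ 3 ≤ a) ∧ (b ∣ 2 * N0 ∧ 3 ≤ b) ∧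
      (c ∣ 2 * N0 ∧ 3 ≤ c) := by
  classical
  have hN0 : 2 * N0 ≠ 0 := by
    rw [← S.card]
    have : 0 < Nat.card M := Nat.card_pos
    omega
  have hsub : ∀ d ∈ charDegrees G, d ∣ 2 * N0 := fun d hd => (H424.DegTools.dvd_card hd).trans S.card_dvd
  have hfin : (charDegrees G).Finite := (Nat.divisors (2 * N0)).finite_toSet.subset fun d hd =>
    Finset.mem_coe.2 (Nat.mem_divisors.2 ⟨hsub d hd, hN0⟩)
  set T : Finset ℕ := hfin.toFinset.erase 1 with hT
  have h1 : (1 : ℕ) ∈ hfin.toFinset := by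
    rw [Set.Finite.mem_toFinset]; exact H424.DegTools.one_mem_degrees
  have hTc : T.card ≤ 3 := by
    rw [hT, Finset.card_erase_of_mem h1, ← Set.ncard_eq_toFinset_card _ hfin]
    omega
  have hTm : ∀ d ∈ T, d ∣ 2 * N0 ∧ 3 ≤ d := by
    intro d hd
    rw [hT, Finset.mem_erase, Set.Finite.mem_toFinset] at hd
    exact ⟨hsub d hd.2, S.three_le hd.2 hd.1⟩
  set U : Finset ℕ := (Nat.divisors (2 * N0)).filter fun d => 3 ≤ d with hU
  have hmU : ∀ d, d ∈ U ↔ (d ∣ 2 * N0 ∧ 3 ≤ d) := by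
    intro d
    rw [hU, Finset.mem_filter, Nat.mem_divisors]
    exact ⟨fun h => ⟨h.1.1, h.2⟩, fun h => ⟨⟨h.1, hN0⟩, h.2⟩⟩
  obtain ⟨V, hV1, hV2, hV3⟩ := Finset.exists_subsuperset_card_eq (s := T) (t := U)
    (fun d hd => (hmU d).2 (hTm d hd)) hTc (hD.trans (Finset.card_le_card fun d hd => (hmU d).2 (hDn d hd)))
  obtain ⟨a, b, c, hab, hac, hbc, rfl⟩ := Finset.card_eq_three.1 hV3
  refine ⟨a, b, c, ?_, hab, hac, hbc, (hmU a).1 (hV2 (by simp)), (hmU b).1 (hV2 (by simp)), (hmU c).1 (hV2 (by simp))⟩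
  intro d hd
  by_cases hd1 : d = 1
  · rw [hd1]; simp
  · have : d ∈ T := by
      rw [hT, Finset.mem_erase, Set.Finite.mem_toFinset]; exact ⟨hd1, hd⟩
    have := hV1 this
    simp only [Finset.mem_insert, Finset.mem_singleton] at this
    simp only [Set.mem_insert_iff, Set.mem_singleton_iff]
    exact Or.inr this

/-- a good prime -/
def GP (N0 p : ℕ) : Prop := p.Prime ∧ p ≠ 2 ∧ p ∣ N0 ∧ ¬ p ^ 2 ∣ N0

/-- **The surviving triples of degrees** -/
theorem Soc.triple (S : Soc M N0) (him : ∀ p : ℕ, p.Prime → p ∣ N0 → H33.IM p M)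
    (hlt : (charDegrees G).ncard < 5) {l : List (ℕ × ℕ)} (hl : ∀ x ∈ l, (x.1).Prime ∧ x.1 ∣ N0) {p1 p2 : ℕ}
    {L1 L2 : List (ℕ × ℕ)} {Ps : List (ℕ × List (ℕ × ℕ))} {Sv : List (ℕ × ℕ × ℕ)}
    (h : masterF l (2 * N0) 2 p1 L1 p2 L2 Ps Sv = true) (hp1 : GP N0 p1) (hp2 : GP N0 p2) (hPs : ∀ P ∈ Ps, GP N0 P.1)
    (h12 : p1 ≠ p2) :
    ∃ a b c : ℕ, charDegrees G ⊆ {1, a, b, c} ∧ ((a, b, c) ∈ Sv ∨ (b, c, a) ∈ Sv ∨ (c, a, b) ∈ Sv) := by
  have hge : ∀ {p : ℕ}, GP N0 p → 3 ≤ p := fun {p} h => by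
    have h1 := h.1.two_le
    have h2 := h.2.1
    omega
  obtain ⟨a, b, c, hcd, hab, hac, hbc, ⟨ha, h3a⟩, ⟨hb, h3b⟩, ⟨hc, h3c⟩⟩ := S.exists_three hlt
    (D := {p1, p2, 2 * p1}) (by
      rw [Finset.card_insert_of_notMem, Finset.card_pair]
      · intro h
        have h3 : 2 ∣ p2 := ⟨p1, h⟩
        exact hp2.2.1 ((Nat.prime_dvd_prime_iff_eq Nat.prime_two hp2.1).1 h3).symm
      · simp only [Finset.mem_insert, Finset.mem_singleton, not_or]
        refine ⟨h12, ?_⟩
        have := hge hp1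
        omega) (by
      intro d hd
      simp only [Finset.mem_insert, Finset.mem_singleton] at hd
      rcases hd with rfl | rfl | rfl
      · exact ⟨hp1.2.2.1.mul_left _, hge hp1⟩
      · exact ⟨hp2.2.2.1.mul_left _, hge hp2⟩
      · have := hge hp1
        exact ⟨Nat.mul_dvd_mul_left 2 hp1.2.2.1, by omega⟩)
  have hdv : ∀ p : ℕ, p.Prime → p ∣ N0 → p ∣ a ∨ p ∣ b ∨ p ∣ c := by
    intro p hp hd
    obtain ⟨d, hd, hpd⟩ := S.im hp (him p hp hd)
    have h1 := hcd hd
    simp only [Set.mem_insert_iff, Set.mem_singleton_iff] at h1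
    rcases h1 with rfl | rfl | rfl | rfl
    · exact absurd (Nat.dvd_one.1 hpd) hp.one_lt.ne'
    · exact Or.inl hpd
    · exact Or.inr (Or.inl hpd)
    · exact Or.inr (Or.inr hpd)
  have hrel : ∀ p : ℕ, GP N0 p → ∃ e, 2 ≤ e ∧ e ∣ p - 1 ∧ Rel p e 2 a b c := fun p hp =>
    S.rel hp.1 hp.2.1 hp.2.2.1 hp.2.2.2 hcd (by omega) (by omega) (by omega) hab hac hbc
  exact ⟨a, b, c, hcd, survive (fun x hx => (hl x hx).1) (masterF_sound h) ha hb hc h3a h3b h3c
    (fun x hx => hdv x.1 (hl x hx).1 (hl x hx).2) (hdv p1 hp1.1 hp1.2.2.1) (hdv p2 hp2.1 hp2.2.2.1)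
    (fun P hP => hdv P.1 (hPs P hP).1 (hPs P hP).2.2.1) (hrel p1 hp1) (hrel p2 hp2) (fun P hP => hrel P.1 (hPs P hP))⟩

/-- the socle condition from `|Out M| ≤ 2` -/
theorem soc_of (hM : M.Normal) (hc : centralizer (M : Set G) = ⊥) (hs : IsSimpleGroup M)
    (hna : ¬ ∀ a b : M, a * b = b * a) (ho : (MulAut.conj : M →* MulAut M).range.index ≤ 2) (hN : Nat.card M = N0) :
    Soc M N0 := by
  refine ⟨hM, hs, hna, ?_, hN⟩
  have hfin : Finite (MulAut M) := Finite.of_injective (fun f : MulAut M => (f : M → M)) DFunLike.coe_injective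
  have h1 : ((MulAut.conj : M →* MulAut M).range).comap (MulAut.conjNormal : G →* MulAut M) = M := by
    ext g
    rw [mem_comap]
    constructor
    · rintro ⟨m, hm⟩
      have h3 : g⁻¹ * (m : G) ∈ centralizer (M : Set G) := by
        rw [mem_centralizer_iff]
        intro x hx
        have h4 := congrArg (fun f : MulAut M => ((f ⟨x, hx⟩ : M) : G)) hm
        have h5 : (m : G) * x * (m : G)⁻¹ = g * x * g⁻¹ := by
          simpa [MulAut.conj_apply, MulAut.conjNormal_apply] using h4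
        calc x * (g⁻¹ * m) = g⁻¹ * (g * x * g⁻¹) * m := by group
          _ = g⁻¹ * m * x := by rw [← h5]; group
      rw [hc, mem_bot] at h3
      have h6 : g = m := by
        rw [← inv_mul_eq_one.1 h3]
      rw [h6]
      exact m.2
    · intro hg
      refine ⟨⟨g, hg⟩, ?_⟩
      ext x
      simp [MulAut.conj_apply, MulAut.conjNormal_apply]
  have h2 : M.index ∣ (MulAut.conj : M →* MulAut M).range.index := by
    conv_lhs => rw [← h1, index_comap]
    have : ((MulAut.conj : M →* MulAut M).range).Normal := by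
      refine ⟨?_⟩
      rintro _ ⟨k, rfl⟩ α
      exact ⟨α k, by ext x; simp [MulAut.conj_apply]⟩
    exact relIndex_dvd_index_of_normal _ _
  have h3 : (MulAut.conj : M →* MulAut M).range.index ≠ 0 := FiniteIndex.index_ne_zero
  have h4 : (MulAut.conj : M →* MulAut M).range.index = 1 ∨ (MulAut.conj : M →* MulAut M).range.index = 2 := by omega
  rcases h4 with h4 | h4
  · rw [h4] at h2
    exact h2.trans (one_dvd 2)
  · rwa [h4] at h2

end

end Cfsg.Agent.H118.FD
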