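import Cfsg.Agent.H118.FD.Group
import Cfsg.Agent.H852.IMJTwo
import Cfsg.Agent.H852.IMHS
import Cfsg.Agent.H852.IMMcL
import Cfsg.Agent.H852.IMSuz
import Cfsg.Agent.H724.IMJThree
import Cfsg.Agent.H713.Spor.McL
import Cfsg.Agent.H713.Spor.HS
import Cfsg.Agent.H123.SporSimple
import Cfsg.Agent.NotCT.Orders

/-!
# Five character degrees: `J2`, `J3`, `HS`, `McL`, `Suz` (helper118, for S4898)
-/

set_option autoImplicit false
set_option maxRecDepth 100000
set_option maxHeartbeats 0

namespace Cfsg.Agent.H118.FD.Rows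

open Subgroup Cfsg Cfsg.Agent.Characters.Core Cfsg.Agent.H118.FD

universe u

theorem master_j3 : masterF [(2, 8), (3, 5), (5, 1), (17, 1), (19, 1)] 100465920 2
    19 [(16, 18), (17, 18), (18, 16), (18, 17), (18, 20), (20, 18)]
    17 [(15, 16), (16, 15), (16, 18), (16, 30), (18, 16), (18, 19), (18, 38), (19, 18), (30, 16), (38, 18)]
    [(5, [(3, 4), (4, 3), (4, 6), (6, 4), (6, 9), (6, 19), (8, 9), (9, 6), (9, 8), (9, 16), (16, 9), (16, 17), (16, 19), (16, 34), (17, 16), (18, 19), (19, 6), (19, 16), (19, 18), (19, 36), (34, 16), (36, 19), (51, 54), (54, 51), (323, 324), (324, 323), (324, 646), (456, 459), (459, 456), (646, 324)])]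
    [] = true := by decide +kernel

theorem master_hs : masterF [(2, 10), (3, 2), (5, 3), (7, 1), (11, 1)] 88704000 2
    11 [(9, 10), (10, 9), (10, 12), (10, 28), (12, 10), (12, 21), (20, 21), (21, 12), (21, 20), (21, 144), (28, 10), (56, 225), (56, 450), (144, 21), (225, 56), (450, 56)]
    7 [(4, 6), (5, 6), (6, 4), (6, 5), (6, 8), (6, 11), (6, 15), (6, 22), (8, 6), (8, 9), (8, 10), (9, 8), (10, 8), (11, 6), (15, 6), (15, 16), (15, 48), (16, 15), (18, 20), (20, 18), (20, 99), (22, 6), (22, 24), (22, 45), (22, 90), (24, 22), (36, 55), (45, 22), (48, 15), (55, 36), (64, 66), (66, 64), (88, 90), (90, 22), (90, 88), (99, 20), (99, 100), (99, 300), (100, 99), (300, 99)]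
    []
    [(20, 21, 99), (21, 20, 99)] = true := by decide +kernel

theorem master_mcl : masterF [(2, 8), (3, 6), (5, 3), (7, 1), (11, 1)] 1796256000 2
    11 [(9, 10), (10, 9), (10, 12), (10, 28), (12, 10), (12, 21), (20, 21), (21, 12), (21, 20), (21, 144), (28, 10), (54, 160), (54, 375), (56, 225), (56, 450), (144, 21), (160, 54), (225, 56), (375, 54), (450, 56)]
    7 [(4, 6), (5, 6), (6, 4), (6, 5), (6, 8), (6, 11), (6, 15), (6, 22), (8, 6), (8, 9), (8, 10), (8, 27), (9, 8), (10, 8), (11, 6), (15, 6), (15, 16), (15, 48), (16, 15), (18, 20), (20, 18), (20, 99), (22, 6), (22, 24), (22, 45), (22, 90), (24, 22), (25, 27), (27, 8), (27, 25), (36, 55), (45, 22), (48, 15), (54, 55), (55, 36), (55, 54), (55, 162), (64, 66), (66, 64), (88, 90), (90, 22), (90, 88), (99, 20), (99, 100), (99, 300), (100, 99), (162, 55), (300, 99)]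
    []
    [(20, 21, 99), (21, 20, 99)] = true := by decide +kernel

theorem master_suz : masterF [(2, 14), (3, 7), (5, 2), (7, 1), (11, 1), (13, 1)] 896690995200 2
    13 [(10, 12), (11, 12), (12, 10), (12, 11), (12, 14), (12, 22), (12, 27), (12, 35), (12, 105), (14, 12), (14, 15), (14, 16), (14, 25), (14, 30), (14, 64), (15, 14), (16, 14), (22, 12), (24, 25), (25, 14), (25, 24), (25, 48), (25, 66), (27, 12), (27, 28), (27, 55), (27, 56), (27, 64), (27, 110), (28, 27), (30, 14), (35, 12), (40, 42), (40, 81), (40, 162), (42, 40), (48, 25), (55, 27), (56, 27), (63, 64), (64, 14), (64, 27), (64, 63), (64, 126), (66, 25), (75, 77), (77, 75), (77, 384), (77, 768), (81, 40), (88, 90), (90, 88), (105, 12), (110, 27), (126, 64), (162, 40), (384, 77), (768, 77), (768, 770), (770, 768)]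
    11 [(9, 10), (10, 9), (10, 12), (10, 28), (10, 39), (10, 78), (12, 10), (12, 13), (12, 21), (13, 12), (20, 21), (21, 12), (21, 20), (21, 144), (28, 10), (39, 10), (54, 160), (56, 225), (56, 450), (64, 65), (65, 64), (78, 10), (100, 351), (144, 21), (160, 54), (210, 351), (225, 56), (350, 351), (351, 100), (351, 210), (351, 350), (450, 56)]
    [(7, [(4, 6), (5, 6), (6, 4), (6, 5), (6, 8), (6, 11), (6, 15), (6, 22), (8, 6), (8, 9), (8, 10), (8, 13), (8, 27), (9, 8), (10, 8), (11, 6), (11, 13), (12, 13), (13, 8), (13, 11), (13, 12), (13, 25), (13, 36), (13, 50), (13, 64), (15, 6), (15, 16), (15, 48), (16, 15), (18, 20), (20, 18), (20, 39), (20, 78), (20, 99), (22, 6), (22, 24), (22, 45), (22, 90), (24, 22), (25, 13), (25, 27), (26, 27), (27, 8), (27, 25), (27, 26), (27, 78), (36, 13), (36, 55), (39, 20), (45, 22), (48, 15), (50, 13), (50, 52), (52, 50), (54, 55), (55, 36), (55, 54), (55, 162), (64, 13), (64, 65), (64, 66), (64, 195), (65, 64), (66, 64), (78, 20), (78, 27), (78,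 80), (80, 78), (88, 90), (90, 22), (90, 88), (99, 20), (99, 100), (99, 300), (100, 99), (130, 132), (132, 130), (162, 55), (162, 325), (162, 650), (195, 64), (300, 99), (325, 162), (351, 352), (351, 1056), (352, 351), (648, 650), (650, 162), (650, 648), (1056, 351)])]
    [] = true := by decide +kernel

/-- a simple group of composite order is not commutative -/
theorem not_comm {K : Type*} [Group K] [Finite K] (hs : IsSimpleGroup K) (h : ¬ (Nat.card K).Prime) :
    ¬ ∀ a b : K, a * b = b * a := by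
  intro hc
  letI : CommGroup K := { (inferInstance : Group K) with mul_comm := hc }
  exact h IsSimpleGroup.prime_card

variable {G : Type u} [Group G] [Finite G]

theorem soc_spor {M : Subgroup G} {N0 : ℕ} (hM : M.Normal) (hc : centralizer (M : Set G) = ⊥)
    (h : IsSporadicGroup M) (hN : Nat.card M = N0) (hp : ¬ N0.Prime) : Soc M N0 := by
  have hs := H123.SporSimple.spor_simple h
  exact soc_of hM hc hs (not_comm hs (by rwa [hN])) (H498.SporOut.index_le_two h) hN

/-- a degree of `M` gives a degree of `G` with quotient 1 or 2 -/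
theorem up {M : Subgroup G} {N0 : ℕ} (S : Soc M N0) {c : ℕ} (hc : c ∈ charDegrees M) :
    c ∈ charDegrees G ∨ 2 * c ∈ charDegrees G := by
  have := S.normal
  obtain ⟨d, hd, h1, h2⟩ := H424.DegTools.clifford_up M hc
  obtain ⟨k, rfl⟩ := h1
  have hc0 := H424.DegTools.pos_of_mem hc
  rw [Nat.mul_div_cancel_left _ hc0] at h2
  have h3 := (Nat.dvd_prime Nat.prime_two).1 (h2.trans S.idx)
  rcases h3 with rfl | rfl
  · left; simpa using hd
  · right; rwa [mul_comm]

theorem five_J3 (M : Subgroup G) (hM : M.Normal) (hc : Subgroup.centralizer (M : Set G) = ⊥)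
    (h : Cfsg.Spor.IsoJ3 M) : 5 ≤ (Cfsg.charDegrees G).ncard := by
  by_contra hlt
  have hN := NotCT.Orders.j3 h
  have S := soc_spor hM hc (by unfold IsSporadicGroup; tauto) hN (by norm_num)
  obtain ⟨a, b, c, -, h1⟩ := S.triple (fun p hp hd => by
      have : Fact p.Prime := ⟨hp⟩
      exact H724.IMJThree.im_j3 h (by rwa [hN])) (by omega) (by decide) master_j3
    ⟨by norm_num, by norm_num, by norm_num, by norm_num⟩ ⟨by norm_num, by norm_num, by norm_num, by norm_num⟩
    (by
      intro P hP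
      simp only [List.mem_cons, List.not_mem_nil, or_false] at hP
      subst hP
      exact ⟨by norm_num, by norm_num, by norm_num, by norm_num⟩) (by norm_num)
  simp at h1

theorem five_Suz (M : Subgroup G) (hM : M.Normal) (hc : Subgroup.centralizer (M : Set G) = ⊥)
    (h : Cfsg.Spor.IsoSuz M) : 5 ≤ (Cfsg.charDegrees G).ncard := by
  by_contra hlt
  have hN := NotCT.Orders.suz h
  have S := soc_spor hM hc (by unfold IsSporadicGroup; tauto) hN (by norm_num)
  obtain ⟨a, b, c, -, h1⟩ := S.triple (fun p hp hd => by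
      have : Fact p.Prime := ⟨hp⟩
      exact H852.IMSuz.im_suz h (by rwa [hN])) (by omega) (by decide) master_suz
    ⟨by norm_num, by norm_num, by norm_num, by norm_num⟩ ⟨by norm_num, by norm_num, by norm_num, by norm_num⟩
    (by
      intro P hP
      simp only [List.mem_cons, List.not_mem_nil, or_false] at hP
      subst hP
      exact ⟨by norm_num, by norm_num, by norm_num, by norm_num⟩) (by norm_num)
  simp at h1

/-- the surviving triple of `HS` and `McL` -/
theorem sub_of {a b c : ℕ} {T : Set ℕ} (hT : T ⊆ {1, a, b, c})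
    (h : (a, b, c) ∈ ([(20, 21, 99), (21, 20, 99)] : List (ℕ × ℕ × ℕ)) ∨
      (b, c, a) ∈ ([(20, 21, 99), (21, 20, 99)] : List (ℕ × ℕ × ℕ)) ∨
      (c, a, b) ∈ ([(20, 21, 99), (21, 20, 99)] : List (ℕ × ℕ × ℕ))) : T ⊆ {1, 20, 21, 99} := by
  intro x hx
  have h1 := hT hx
  simp only [Set.mem_insert_iff, Set.mem_singleton_iff, List.mem_cons, List.not_mem_nil, or_false, Prod.mk.injEq] at *
  omega

theorem five_HS (M : Subgroup G) (hM : M.Normal) (hc : Subgroup.centralizer (M : Set G) = ⊥)
    (h : Cfsg.Spor.IsoHS M) : 5 ≤ (Cfsg.charDegrees G).ncard := by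
  by_contra hlt
  have hN := NotCT.Orders.hs h
  have S := soc_spor hM hc (by unfold IsSporadicGroup; tauto) hN (by norm_num)
  obtain ⟨a, b, c, hcd, h1⟩ := S.triple (fun p hp hd => by
      have : Fact p.Prime := ⟨hp⟩
      exact H852.IMHS.im_hs h (by rwa [hN])) (by omega) (by decide) master_hs
    ⟨by norm_num, by norm_num, by norm_num, by norm_num⟩ ⟨by norm_num, by norm_num, by norm_num, by norm_num⟩
    (by simp) (by norm_num)
  have h2 := sub_of hcd h1
  obtain ⟨e⟩ := h
  have h3 : 77 ∈ charDegrees M := by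
    obtain ⟨χ, hχ⟩ := H713.Spor.HS.exists_77
    rw [H424.DegTools.charDegrees_congr (e.trans SporadicRecognition.HSRank.hsEquiv)]
    exact ⟨χ, hχ⟩
  rcases up S h3 with h4 | h4 <;> simpa using h2 h4

theorem five_McL (M : Subgroup G) (hM : M.Normal) (hc : Subgroup.centralizer (M : Set G) = ⊥)
    (h : Cfsg.Spor.IsoMcL M) : 5 ≤ (Cfsg.charDegrees G).ncard := by
  by_contra hlt
  have hN := NotCT.Orders.mcl h
  have S := soc_spor hM hc (by unfold IsSporadicGroup; tauto) hN (by norm_num)
  obtain ⟨a, b, c, hcd, h1⟩ := S.triple (fun p hp hd => by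
      have : Fact p.Prime := ⟨hp⟩
      exact H852.IMMcL.im_mcl h (by rwa [hN])) (by omega) (by decide) master_mcl
    ⟨by norm_num, by norm_num, by norm_num, by norm_num⟩ ⟨by norm_num, by norm_num, by norm_num, by norm_num⟩
    (by simp) (by norm_num)
  have h2 := sub_of hcd h1
  obtain ⟨e⟩ := h
  have h3 : 252 ∈ charDegrees M := by
    obtain ⟨χ, hχ⟩ := H713.Spor.McL.exists_252
    rw [H424.DegTools.charDegrees_congr (e.trans H713.Spor.McL.mclEquiv)]
    exact ⟨χ, hχ⟩
  rcases up S h3 with h4 | h4 <;> simpa using h2 h4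

/-! ### `J2` -/

theorem chk_solve : ((List.range 100).all fun f => (f == 0) || (f == 99) || !(226800 % (f * (99 - f)) == 0) ||
    (let D := 226800 / (f * (99 - f)); !(Nat.sqrt D * Nat.sqrt D == D)) || (f == 36) || (f == 63)) = true := by
  decide +kernel

theorem solve {f g D : ℕ} (h1 : f + g = 99) (h2 : f * g * D = 226800) (h3 : IsSquare D) : f = 36 ∨ f = 63 := by
  have h := List.all_eq_true.1 chk_solve f (List.mem_range.2 (by omega))
  have hg : 99 - f = g := by omega
  have hf0 : f ≠ 0 := by rintro rfl; simp at h2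
  have hg0 : g ≠ 0 := by rintro rfl; simp at h2
  have hf9 : f ≠ 99 := by omega
  have h4 : 226800 % (f * g) = 0 := by
    rw [← h2]
    exact Nat.mul_mod_right _ _
  have h5 : 226800 / (f * g) = D := by
    rw [← h2]
    exact Nat.mul_div_cancel_left _ (Nat.mul_pos (Nat.pos_of_ne_zero hf0) (Nat.pos_of_ne_zero hg0))
  obtain ⟨m, hm⟩ := h3
  have h6 : Nat.sqrt D * Nat.sqrt D = D := by
    rw [hm, Nat.sqrt_eq]
  simp only [hg, h4, h5, h6] at h
  simp [hf0, hf9] at h
  exact h

theorem master_j2 : chkPF 1209600 7 2 (divs [(2, 8), (3, 3), (5, 2), (7, 1)])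
    [(4, 6), (5, 6), (6, 4), (6, 5), (6, 8), (6, 15), (8, 6), (8, 9), (8, 10), (8, 27), (9, 8), (10, 8), (15, 6), (15, 16), (15, 48), (16, 15), (18, 20), (20, 18), (25, 27), (27, 8), (27, 25), (48, 15)] = true := by
  decide +kernel

theorem mem_36 {S : Type*} [Group S] (h : Spor.IsoJ2 S) : 36 ∈ charDegrees S := by
  have hc := NotCT.Orders.j2 h
  obtain ⟨e⟩ := h
  have hfin : Finite S := Nat.finite_of_card_ne_zero (by rw [hc]; norm_num)
  have : Finite Spor.J2 := Finite.of_equiv S e.toEquiv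
  rw [H424.DegTools.charDegrees_congr e]
  obtain ⟨H, h1, -, q1, q2, h2, h3⟩ := Cfsg.Agent.S1624.result
  obtain ⟨R, hR⟩ := H690.Spor.RankThree.R3.of_index H (k := 36) (l := 63) h1 h2 h3 (by norm_num) (by norm_num)
    (by norm_num)
  classical
  have := Fintype.ofFinite (Spor.J2 ⧸ H)
  obtain ⟨χ₁, χ₂, f, g, D, hf, hg, -, hfg, hprod, hsq⟩ := hR.frame
  have hne : f ≠ g := by omega
  rcases solve hfg hprod (hsq hne) with rfl | rfl
  · exact ⟨χ₁, Cfsg.Agent.Blocks.Basic.charDegree_of_eq hf⟩
  · have h4 : g = 36 := by omega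
    subst h4
    exact ⟨χ₂, Cfsg.Agent.Blocks.Basic.charDegree_of_eq hg⟩

theorem five_J2 (M : Subgroup G) (hM : M.Normal) (hc : Subgroup.centralizer (M : Set G) = ⊥)
    (h : Cfsg.Spor.IsoJ2 M) : 5 ≤ (Cfsg.charDegrees G).ncard := by
  by_contra hlt
  have hN := NotCT.Orders.j2 h
  have S := soc_spor hM hc (by unfold IsSporadicGroup; tauto) hN (by norm_num)
  obtain ⟨a, b, c, hcd, hab, hac, hbc, ⟨ha, h3a⟩, ⟨hb, h3b⟩, ⟨hc', h3c⟩⟩ := S.exists_three (by omega)
    (D := {3, 4, 5}) (by decide) (by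
      intro d hd
      simp only [Finset.mem_insert, Finset.mem_singleton] at hd
      rcases hd with rfl | rfl | rfl <;> norm_num)
  have h7p : Nat.Prime 7 := by norm_num
  have h7f : Fact (Nat.Prime 7) := ⟨h7p⟩
  have hrel := S.rel h7p (by norm_num) (by norm_num) (by norm_num) hcd (by omega) (by omega) (by omega) hab hac hbc
  have h7 : 7 ∣ a ∨ 7 ∣ b ∨ 7 ∣ c := by
    obtain ⟨d, hd, hpd⟩ := S.im h7p (H852.IMJTwo.im_j2 h (by rw [hN]; norm_num))
    have h1 := hcd hd
    simp only [Set.mem_insert_iff, Set.mem_singleton_iff] at h1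
    rcases h1 with rfl | rfl | rfl | rfl
    · norm_num at hpd
    · exact Or.inl hpd
    · exact Or.inr (Or.inl hpd)
    · exact Or.inr (Or.inr hpd)
  have key := inT_of (N := 1209600) (fun d hd => mem_divs (l := [(2, 8), (3, 3), (5, 2), (7, 1)]) (by decide)
    (by simpa [prodl] using hd)) (by norm_num) (by norm_num) (by norm_num) (chkPF_sound master_j2) ha hb hc' h3a h3b h3c
    h7 hrel
  simp only [List.mem_cons, List.not_mem_nil, or_false, Prod.mk.injEq] at key
  rcases up S (mem_36 h) with h4 | h4 <;>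
  · have h5 := hcd h4
    simp only [Set.mem_insert_iff, Set.mem_singleton_iff] at h5
    omega

end Cfsg.Agent.H118.FD.Rows
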